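import Cfsg.Agent.NA9.M
import Cfsg.Agent.H19.N9b
import Cfsg.Agent.H1.Generation
import Cfsg.Agent.H1.SylowIn
import Cfsg.Agent.H11.Three

/-! An irreducible character of degree three forces the group to be the model `3³ : S₄`. -/

set_option autoImplicit false

namespace Cfsg.Agent.NA9

open Cfsg Cfsg.Agent.H4 Subgroup SemidirectProduct Finset
open scoped Pointwise

namespace P3

def wt (v : V) : Fin 4 :=
  (if v.toAdd.1 = 0 then 0 else 1) + (if v.toAdd.2.1 = 0 then 0 else 1) + (if v.toAdd.2.2 = 0 then 0 else 1)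

def jv : Fin 4 → V
  | 0 => 1
  | 1 => .ofAdd (1, 0, 0)
  | 2 => .ofAdd (0, 1, -1)
  | 3 => .ofAdd (1, 1, 1)

def jj (i : Fin 4) : W := inl (jv i)

theorem f1' : ∀ v : V, ∃ σ : S4, ph σ (jv (wt v)) = v := by decide +kernel
theorem f2' : ∀ i, jv i ^ 3 = 1 ∧ ∃ σ : S4, ph σ (jv i) = jv i ^ 2 := by decide +kernel
theorem f1 (v : V) : ∃ σ : S4, inr σ * jj (wt v) * (inr σ)⁻¹ = inl v :=
  (f1' v).imp fun σ h => by rw [jj, ← map_inv, ← inl_aut, h]
theorem f2 (i : Fin 4) : jj i ^ 3 = 1 ∧ ∃ σ : S4, inr σ * jj i * (inr σ)⁻¹ = jj i ^ 2 :=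
  ⟨by rw [jj, ← map_pow, (f2' i).1, map_one],
    (f2' i).2.imp fun σ h => by rw [jj, ← map_inv, ← inl_aut, h, map_pow]⟩
theorem f3 : ∀ v : V, ∃ a b, wt a = 3 ∧ wt b = 3 ∧ v = a * b := by decide +kernel
theorem f4 : ∀ σ : S4, (∀ v : V, ph σ v = v) → σ = 1 := by decide +kernel
theorem f5 : ∀ σ : S4, σ ≠ 1 → ∃ τ, τ * σ * τ⁻¹ ≠ σ := by decide +kernel
theorem f6 : (univ.filter (wt · = 0)).card = 1 ∧ (univ.filter (wt · = 1)).card = 6 ∧
    (univ.filter (wt · = 2)).card = 12 ∧ (univ.filter (wt · = 3)).card = 8 := by decide +kernel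
theorem f7 : A j1 ∧ j1.right = 1 ∧ j1 ≠ 1 := by decide +kernel
theorem f8 : ∀ v : V, v ^ 3 = 1 := by decide +kernel
theorem cardV : Nat.card V = 27 := by rw [Nat.card_eq_fintype_card]; rfl

variable {G : Type*} [Group G] [Finite G] {f : W →* G}

theorem ker3 (χ : IrrCharacter G) (hd : charDegree (χ : G → ℂ) = 3) (v : V) :
    f (inl v) ∈ charKer (χ : G → ℂ) := by
  have hχ := χ.2.isCharacter
  have d1 : (χ : G → ℂ) 1 = 3 := by rw [← hχ.charDegree_cast, hd]; rfl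
  have hv : ∀ i, ∃ k : ℤ, (χ : G → ℂ) (f (jj i)) = (3 - 3 * k : ℤ) := fun i => by
    obtain ⟨a1, σ, a2⟩ := f2 i
    have := H19.N9.val3 hχ (g := f (jj i)) (by rw [← map_pow, a1, map_one])
      (isConj_iff.2 ⟨f (inr σ), by rw [← map_inv, ← map_mul, ← map_mul, a2, map_pow]⟩)
    rwa [hd] at this
  have hw : ∀ v, (χ : G → ℂ) (f (inl v)) = (χ : G → ℂ) (f (jj (wt v))) := fun v => by
    obtain ⟨σ, e⟩ := f1 v
    rw [← e, map_mul, map_mul, map_inv, hχ.isClassFunction]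
  obtain ⟨n, hn⟩ := (hχ.comp (f.comp inl)).classInner_nat isCharacter_one
  obtain ⟨k1, h1⟩ := hv 1
  obtain ⟨k2, h2⟩ := hv 2
  obtain ⟨k3, h3⟩ := hv 3
  have h0 : (χ : G → ℂ) (f (jj 0)) = 3 := by rw [← d1, ← map_one f]; rfl
  have hs : ∑ v : V, (χ : G → ℂ) (f (inl v)) =
      ∑ i : Fin 4, ∑ v ∈ univ.filter (wt · = i), (χ : G → ℂ) (f (jj i)) := by
    rw [← sum_fiberwise univ wt]
    exact sum_congr rfl fun i _ => sum_congr rfl fun v hv => by rw [hw, (mem_filter.1 hv).2]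
  simp only [sum_const, Fin.sum_univ_four, f6.1, f6.2.1, f6.2.2.1, f6.2.2.2, h0, h1, h2, h3] at hs
  rw [classInner_one_right, cardV] at hn
  have e : (27 * n : ℂ) = 3 + 6 * (3 - 3 * k1) + 12 * (3 - 3 * k2) + 8 * (3 - 3 * k3) := by
    rw [← hn]
    erw [hs]
    push_cast
    ring
  have e' : (27 * n : ℤ) = 3 + 6 * (3 - 3 * k1) + 12 * (3 - 3 * k2) + 8 * (3 - 3 * k3) := by exact_mod_cast e
  have b := hχ.norm_le (f (jj 3))
  rw [h3, d1, Complex.norm_intCast, Complex.norm_ofNat] at b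
  have b' : |3 - 3 * k3| ≤ 3 := by exact_mod_cast b
  obtain rfl : k3 = 0 := by have := abs_le.1 b'; omega
  have key : ∀ a, wt a = 3 → f (inl a) ∈ charKer (χ : G → ℂ) := fun a ha =>
    hχ.mem_charKer.2 (by rw [hw, ha, h3, d1]; simp)
  obtain ⟨a, b, ha, hb, rfl⟩ := f3 v
  rw [map_mul, map_mul]
  exact mul_mem (key a ha) (key b hb)

theorem idx9 (χ : IrrCharacter G) (hd : charDegree (χ : G → ℂ) = 3) : 9 ≤ (charKer (χ : G → ℂ)).index := by
  classical
  letI := Fintype.ofFinite G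
  have hχ := χ.2.isCharacter
  have d1 : (χ : G → ℂ) 1 = 3 := by rw [← hχ.charDegree_cast, hd]; rfl
  have h1 := classInner_self_re (φ := (χ : G → ℂ))
  rw [χ.2.classInner_self, Complex.one_re, eq_inv_mul_iff_mul_eq₀ (by exact_mod_cast Nat.card_pos.ne'),
    mul_one] at h1
  have h2 : ∑ g ∈ univ.filter (· ∈ charKer (χ : G → ℂ)), ‖(χ : G → ℂ) g‖ ^ 2 ≤ ∑ g, ‖(χ : G → ℂ) g‖ ^ 2 :=
    sum_le_sum_of_subset_of_nonneg (subset_univ _) fun _ _ _ => sq_nonneg _
  rw [← h1, sum_congr rfl fun g hg => by rw [apply_of_mem_charKer (mem_filter.1 hg).2, d1], sum_const,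
    ← Fintype.card_subtype, ← Nat.card_eq_fintype_card, ← (charKer (χ : G → ℂ)).card_mul_index] at h2
  have h3 : Nat.card (charKer (χ : G → ℂ)) * 9 ≤
      Nat.card (charKer (χ : G → ℂ)) * (charKer (χ : G → ℂ)).index := by
    rw [nsmul_eq_mul, Complex.norm_ofNat] at h2
    exact_mod_cast h2
  exact Nat.le_of_mul_le_mul_left h3 Nat.card_pos

theorem small {K0 : Subgroup W} [hn : K0.Normal] (h : ∀ v, inl v ∈ K0) (h9 : 9 ≤ K0.index) {w : W}
    (hw : w ∈ K0) : w.right = 1 := by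
  classical
  have e : K0 = (K0.comap inr).comap rightHom := Subgroup.ext fun x => by
    rw [mem_comap, mem_comap, rightHom_eq_right]
    nth_rw 1 [← inl_left_mul_inr_right x]
    exact mul_mem_cancel_left (h _)
  by_contra h1
  obtain ⟨τ, h2⟩ := f5 _ h1
  have h3 : w.right ∈ K0.comap inr := by rw [e] at hw; exact hw
  have h4 : 2 < Nat.card (K0.comap (inr : S4 →* W)) := by
    rw [Nat.card_eq_fintype_card, Fintype.two_lt_card_iff]
    exact ⟨1, ⟨_, h3⟩, ⟨_, (hn.comap inr).conj_mem _ h3 τ⟩, fun e => h1 (congrArg Subtype.val e).symm,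
      fun e => h1 (by simpa using (congrArg Subtype.val e).symm), fun e => h2 (congrArg Subtype.val e).symm⟩
  have h5 := (K0.comap (inr : S4 →* W)).card_mul_index
  rw [e, index_comap_of_surjective _ rightHom_surjective] at h9
  rw [Nat.card_perm, Nat.card_fin] at h5
  have := Nat.mul_le_mul h4 h9
  rw [h5] at this
  exact absurd this (by decide)

end P3

open P3 in
theorem Md.top {G : Type*} [Group G] [Finite G] {f : W →* G} (h : Md f)
    (ti : ∀ (a m : W) (g : G), A a → g * f a * g⁻¹ = f m → ∃ n, f n = g) (χ : IrrCharacter G)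
    (hd : charDegree (χ : G → ℂ) = 3) : f.range = ⊤ := by
  haveI : Fact (Nat.Prime 3) := ⟨Nat.prime_three⟩
  haveI hK := χ.2.isCharacter.charKer_normal
  have k1 := ker3 (f := f) χ hd
  have k2 := idx9 χ hd
  generalize charKer (χ : G → ℂ) = K at *
  have mJ : ∀ {w : W}, w.right = 1 → f w ∈ (f.comp inl).range := fun {w} e =>
    ⟨w.left, congrArg f (by rw [← inl_left_mul_inr_right w, e]; simp)⟩
  have cJ : Nat.card (f.comp inl).range = 3 ^ 3 :=
    (Nat.card_congr (MonoidHom.ofInjective (f := f.comp inl) (h.inj.comp inl_injective)).toEquiv).symm.trans cardV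
  have comm : ∀ a ∈ (f.comp inl).range, ∀ b ∈ (f.comp inl).range, a * b = b * a := by
    rintro _ ⟨a, rfl⟩ _ ⟨b, rfl⟩
    rw [← map_mul, ← map_mul, mul_comm]
  have e3 : ∀ a ∈ (f.comp inl).range, a ^ 3 = 1 := by
    rintro _ ⟨a, rfl⟩
    rw [← map_pow, f8, map_one]
  have cen : ∀ a ∈ (f.comp inl).range, a ≠ 1 → ∀ g, g * a = a * g → g ∈ f.range := by
    rintro _ ⟨a, rfl⟩ a1 g e
    exact h.cent (inl a) g rfl (fun e => a1 (by rw [MonoidHom.comp_apply, e, map_one])) e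
  have JK : (f.comp inl).range ≤ K := by rintro _ ⟨a, rfl⟩; exact k1 a
  have JH : (f.comp inl).range ≤ f.range := by rintro _ ⟨a, rfl⟩; exact ⟨_, rfl⟩
  have cH : ∀ n : W, (∀ a ∈ (f.comp inl).range, a * f n = f n * a) → n.right = 1 := fun n e => f4 _ fun v => by
    have := h.inj ((map_mul f _ _).trans ((e _ ⟨v, rfl⟩).trans (map_mul f _ _).symm))
    have := congrArg SemidirectProduct.left this
    simp only [mul_left, left_inl, right_inl, map_one, MulAut.one_apply] at this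
    rw [mul_comm] at this
    exact (mul_left_cancel this).symm
  have j0 := mJ f7.2.1
  have j' : f j1 ≠ 1 := fun e => f7.2.2 (h.inj (e.trans (map_one f).symm))
  generalize (f.comp inl).range = J at *
  obtain ⟨S, hS, JS⟩ := H1.exists_isSylowIn_ge JK (IsPGroup.of_card cJ)
  have SH : S ≤ f.range := by
    obtain ⟨x, x1, x2, -, x4⟩ := H11.exists_central_mod_in (N := ⊥) (M := S) hS.isPGroup le_rfl
      (by rw [normalizer_eq_top]; exact le_top) le_normalizer fun e => j' (mem_bot.1 (e (JS j0)))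
    simp only [mem_bot, mul_inv_eq_iff_eq_mul, one_mul] at x2 x4
    obtain ⟨n, rfl⟩ := cen _ j0 j' x (x4 _ (JS j0)).symm
    exact fun s hs => cen _ (mJ (cH n fun a ha => x4 a (JS ha))) x2 s (x4 s hs)
  have top : f.range ⊔ K = ⊤ := eq_top_iff.2 fun g _ => by
    obtain ⟨k, hk, h1⟩ := hS.exists_le_conj (zpowers_le.2 (hK.conj_mem _ (JK j0) g)) (by
      rintro ⟨_, i, rfl⟩
      exact ⟨1, Subtype.ext (by
        show ((g * f j1 * g⁻¹) ^ i) ^ 3 ^ 1 = 1
        rw [pow_one, ← zpow_natCast, ← zpow_mul, mul_comm i, zpow_mul, zpow_natCast, conj_pow, e3 _ j0]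
        simp)⟩)
    have h2 := h1 (mem_zpowers _)
    rw [mem_pointwise_smul_iff_inv_smul_mem] at h2
    obtain ⟨m, hm⟩ := SH h2
    obtain ⟨n, hn⟩ := ti j1 m (k⁻¹ * g) f7.1 (by rw [hm]; simp [mul_assoc])
    rw [show g = k * f n by rw [hn]; simp]
    exact mul_mem (mem_sup_right hk) (mem_sup_left ⟨n, rfl⟩)
  have HK : ∀ g ∈ f.range, g ∈ K → g ∈ J := by
    rintro _ ⟨w, rfl⟩ hw
    refine mJ (small (K0 := K.comap f) k1 ?_ hw)
    rwa [index_comap, ← relIndex_sup_right, top, relIndex_top_right]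
  obtain rfl : J = S := le_antisymm JS fun s hs => HK s (SH hs) (hS.le hs)
  obtain ⟨P, hP⟩ := hS.exists_sylow
  have mP : ∀ {x : K}, x ∈ (P : Subgroup K) ↔ x.1 ∈ J := fun {x} => by
    rw [← hP]
    exact ⟨fun e => ⟨x, e, rfl⟩, fun ⟨y, e, e'⟩ => (Subtype.ext e' : y = x) ▸ e⟩
  have hN : normalizer ((P : Subgroup K) : Set K) ≤ centralizer ((P : Subgroup K) : Set K) := fun g hg x hx => by
    obtain ⟨m, hm⟩ := JH (mP.1 ((mem_normalizer_iff.1 hg ⟨_, JK j0⟩).1 (mP.2 j0)))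
    exact Subtype.ext (comm _ (mP.1 hx) _ (HK _ (ti j1 m g f7.1 hm.symm) g.2))
  have c1 := MonoidHom.ker_transferSylow_isComplement' P hN
  have c2 := MonoidHom.not_dvd_card_ker_transferSylow P hN
  have c3 : (MonoidHom.transferSylow P hN).ker.Normal := inferInstance
  generalize (MonoidHom.transferSylow P hN).ker = N at c1 c2 c3
  haveI : IsMulCommutative J := ⟨⟨fun a b => Subtype.ext (comm _ a.2 _ b.2)⟩⟩
  have c4 : N.map K.subtype ≤ ⊥ := H1.le_of_forall_centralizer_singleton_le (A := J) (fun hc => by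
      obtain ⟨g, hg⟩ := IsCyclic.exists_ofOrder_eq_natCard (α := J)
      have := orderOf_dvd_of_pow_eq_one (Subtype.ext (e3 _ g.2) : g ^ 3 = 1)
      rw [hg, cJ] at this
      exact absurd this (by decide))
    (fun a ha => mem_normalizer_fintype (by
      rintro _ ⟨x, hx, rfl⟩
      exact ⟨_, c3.conj_mem x hx ⟨a, JK ha⟩, rfl⟩))
    (by rw [cJ, Subgroup.card_subtype]; exact ((Nat.prime_three.coprime_iff_not_dvd).2 c2).pow_left 3) (by
      rintro a ha a1 _ ⟨⟨x, hx, rfl⟩, e⟩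
      have := c1.disjoint.le_bot ⟨hx, mP.2 (HK _ (cen a ha a1 _ (mem_centralizer_singleton_iff.1 e)) x.2)⟩
      rw [mem_bot.1 this]
      exact one_mem _)
  rw [le_bot_iff, map_eq_bot_iff_of_injective _ K.subtype_injective] at c4
  rw [c4, isComplement'_bot_left] at c1
  rw [← top, eq_comm, sup_eq_left]
  exact fun g hg => JH ((mP (x := ⟨g, hg⟩)).1 (c1 ▸ mem_top _))

end Cfsg.Agent.NA9
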