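import Cfsg.Agent.NA9.C2
import Cfsg.Agent.NA9.I
import Cfsg.Agent.NA9.L
import Cfsg.Agent.NA9.E2
import Cfsg.Agent.NA9.E3
import Cfsg.Agent.H19.N9b

/-! A group with an embedded model `3³ : S₄` has an irreducible character of degree `3` -/

set_option autoImplicit false

namespace Cfsg.Agent.NA9

open Cfsg Cfsg.Agent.H4 Finset

variable {G : Type*} [Group G] [Fintype G] {f : W →* G}

theorem iz (h : Md f) (a : W) : IsConj (f z) (f a) ↔ cls a = 4 :=
  (h.conj_z a).trans (cj_iff cls_z rfl a)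

theorem iu (h : Md f) (a : W) : IsConj (f u) (f a) ↔ cls a = 6 :=
  (h.conj_u a).trans (cj_iff cls_u rfl a)

theorem castq {ι : Type*} [Fintype ι] {b d x y : ι → ℤ} {N cx cy sx sy : ℕ} {k : ℤ} (hN : N ≠ 0)
    (hx : cx ≠ 0) (hy : cy ≠ 0) (sx0 : sx ≠ 0) (sy0 : sy ≠ 0)
    (h : (∑ i, (b i : ℂ) * (x i * y i / d i)) * (N * 648) = cx * cy * (sx * k)) :
    ∑ i, (b i : ℚ) * ((x i / (sx * cx) : ℚ) * (y i / (sy * cy)) / d i) =
      k / sy * (1 / (N * 648)) := by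
  have h' : (∑ i, (b i : ℚ) * (x i * y i / d i)) * (N * 648) = cx * cy * (sx * k) := by
    apply Rat.cast_injective (α := ℂ)
    push_cast
    exact h
  have : ∑ i, (b i : ℚ) * ((x i / (sx * cx) : ℚ) * (y i / (sy * cy)) / d i) =
      (∑ i, (b i : ℚ) * (x i * y i / d i)) / (sx * cx * (sy * cy)) := by
    rw [sum_div]
    exact sum_congr rfl fun i _ => by ring
  rw [this, eq_div_of_mul_eq (by positivity) h']
  field_simp

theorem cast0 {ι : Type*} [Fintype ι] {b x : ι → ℤ} (c : ℚ) (h : ∑ i, (b i : ℂ) * x i = 0) :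
    ∑ i, (b i : ℚ) * (x i / c) = 0 := by
  have h' : ∑ i, (b i : ℚ) * x i = 0 := by
    apply Rat.cast_injective (α := ℂ)
    push_cast
    exact h
  simp only [← mul_div_assoc, ← sum_div, h', zero_div]

theorem getR (h : Md f) {d tz tu : IrrCharacter G → ℤ}
    (hd : ∀ χ : IrrCharacter G, (χ : G → ℂ) 1 = d χ)
    (hz : ∀ χ : IrrCharacter G, (χ : G → ℂ) (f z) = tz χ)
    (hu : ∀ χ : IrrCharacter G, (χ : G → ℂ) (f u) = tu χ) {l : List (ℤ × ℤ)}
    (hl : IsGeneralizedCharacter W (ch l)) (hA : ∀ w, ch l w ≠ 0 → A w)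
    {b : IrrCharacter G → ℤ}
    (hb : ∀ χ : IrrCharacter G, (b χ : ℂ) = classInner (ch l) fun w => (χ : G → ℂ) (f w))
    {k1 k2 k3 : ℤ} (hk : (ps z 4 l, ps z 6 l, ps u 6 l) = ((k1, 0), (k2, 0), (k3, 0)))
    {a b' c : ℚ} (e : a = k1 / (27 : ℕ) ∧ b' = k2 / (54 : ℕ) ∧ c = k3 / (54 : ℕ)) :
    R d (fun χ => tz χ / ((27 : ℕ) * Nat.card (Subgroup.centralizer ({f z} : Set G))))
      (fun χ => tu χ / ((54 : ℕ) * Nat.card (Subgroup.centralizer ({f u} : Set G))))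
      (1 / (Nat.card G * 648)) b a b' c := by
  obtain ⟨rfl, rfl, rfl⟩ := e
  simp only [Prod.mk.injEq] at hk
  obtain ⟨-, -, -, -, -, -, z2, u2, -⟩ := P2.misc
  have fz : f z * f z = 1 := by rw [← map_mul, z2, map_one]
  have fu : f u * f u = 1 := by rw [← map_mul, u2, map_one]
  have i0 := I2 h.inj h.ti hl hA hb h.notA_one
  have i1 := I2 h.inj h.ti hl hA hb h.notA_z
  have i2 := I2 h.inj h.ti hl hA hb h.notA_u
  have j1 := I3 h.inj h.ti hl hA hb fz fz _ _ (iz h) (iz h)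
  have j2 := I3 h.inj h.ti hl hA hb fz fu _ _ (iz h) (iu h)
  have j3 := I3 h.inj h.ti hl hA hb fu fu _ _ (iu h) (iu h)
  have cw : (Nat.card W : ℂ) = 648 := by rw [Nat.card_eq_fintype_card, cardW]; rfl
  rw [pair hl (cj_iff cls_z rfl) (cj_iff cls_z rfl) (by decide) hk.1, cw] at j1
  rw [pair hl (cj_iff cls_z rfl) (cj_iff cls_u rfl) (by decide) hk.2.1, cw] at j2
  rw [pair hl (cj_iff cls_u rfl) (cj_iff cls_u rfl) (by decide) hk.2.2, cw] at j3
  simp only [hd, hz, hu] at i0 i1 i2 j1 j2 j3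
  have p := Nat.card_pos (α := G) |>.ne'
  have pz := Nat.card_pos (α := Subgroup.centralizer ({f z} : Set G)) |>.ne'
  have pu := Nat.card_pos (α := Subgroup.centralizer ({f u} : Set G)) |>.ne'
  refine ⟨?_, cast0 _ i1, cast0 _ i2, castq p pz pz (by decide) (by decide) j1,
    castq p pz pu (by decide) (by decide) j2, castq p pu pu (by decide) (by decide) j3⟩
  unfold H19.ip
  exact_mod_cast i0

theorem Md.eq_top (h : Md f) : f.range = ⊤ := by
  obtain ⟨-, -, -, -, -, -, z2, u2, -⟩ := P2.misc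
  have v : ∀ x : W, x * x = 1 → ∀ χ : IrrCharacter G, ∃ k : ℤ, (χ : G → ℂ) (f x) = k :=
    fun x hx χ => (H19.N9.val2 χ.2.isCharacter (g := f x)
      (by rw [pow_two, ← map_mul, hx, map_one])).elim fun _ e => ⟨_, e⟩
  choose tz hz using v z z2
  choose tu hu using v u u2
  have hd : ∀ χ : IrrCharacter G, (χ : G → ℂ) 1 = ((charDegree (χ : G → ℂ) : ℤ) : ℂ) := fun χ => by
    rw [← χ.2.isCharacter.charDegree_cast, Int.cast_natCast]
  obtain ⟨b1, h1⟩ := I0 (f := f) gt1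
  obtain ⟨b2, h2⟩ := I0 (f := f) gt2
  obtain ⟨b3, h3⟩ := I0 (f := f) gt3
  obtain ⟨b4, h4⟩ := I0 (f := f) gt4
  obtain ⟨b5, h5⟩ := I0 (f := f) gt5
  obtain ⟨b6, h6⟩ := I0 (f := f) gt6
  have s1 := supp (l := t1) (by decide +kernel)
  have s2 := supp (l := t2) (by decide +kernel)
  have s3 := supp (l := t3) (by decide +kernel)
  have s4 := supp (l := t4) (by decide +kernel)
  have s5 := supp (l := t5) (by decide +kernel)
  have s6 := supp (l := t6) (by decide +kernel)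
  have o : ∀ {l : List (ℤ × ℤ)} {b : IrrCharacter G → ℤ}, (∀ χ : IrrCharacter G, (b χ : ℂ) =
      classInner (ch l) fun w => (χ : G → ℂ) (f w)) → ∀ k : ℤ, gr l x1 = (648 * k, 0) →
      b (irrOne G) = k := fun hb k e => by
    have := (hb (irrOne G)).trans ((congrArg _ ch_x1.symm).trans (gram e))
    exact_mod_cast this
  have g : ∀ {l m : List (ℤ × ℤ)} {b c : IrrCharacter G → ℤ}, IsGeneralizedCharacter W (ch l) →
      (∀ w, ch l w ≠ 0 → A w) → IsGeneralizedCharacter W (ch m) → (∀ w, ch m w ≠ 0 → A w) →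
      (∀ χ : IrrCharacter G, (b χ : ℂ) = classInner (ch l) fun w => (χ : G → ℂ) (f w)) →
      (∀ χ : IrrCharacter G, (c χ : ℂ) = classInner (ch m) fun w => (χ : G → ℂ) (f w)) →
      ∀ k : ℤ, gr l m = (648 * k, 0) → H19.ip b c = k := fun a b c d e f k q => by
    have := (I1 h.inj h.ti a b c d e f).trans (gram q)
    exact_mod_cast this
  have pv := ps_val
  simp only [List.map_cons, List.map_nil, List.cons.injEq] at pv
  obtain ⟨v1, v2, v3, v4, v5, v6, -⟩ := pv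
  obtain ⟨χ, e⟩ := lat (o := irrOne G)
    (one_div_ne_zero (mul_ne_zero (Nat.cast_ne_zero.2 Nat.card_pos.ne') (by norm_num)))
    (fun χ => by exact_mod_cast χ.2.charDegree_pos)
    (by exact_mod_cast charDegree_eq_of (d := 1) (by simp))
    (o h1 _ (by decide +kernel)) (o h2 _ (by decide +kernel)) (o h3 _ (by decide +kernel))
    (o h4 _ (by decide +kernel)) (o h5 _ (by decide +kernel)) (o h6 _ (by decide +kernel))
    (g gt1 s1 gt1 s1 h1 h1 _ (by decide +kernel)) (g gt2 s2 gt2 s2 h2 h2 _ (by decide +kernel))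
    (g gt3 s3 gt3 s3 h3 h3 _ (by decide +kernel)) (g gt4 s4 gt4 s4 h4 h4 _ (by decide +kernel))
    (g gt5 s5 gt5 s5 h5 h5 _ (by decide +kernel)) (g gt6 s6 gt6 s6 h6 h6 _ (by decide +kernel))
    (g gt1 s1 gt2 s2 h1 h2 _ (by decide +kernel)) (g gt1 s1 gt3 s3 h1 h3 _ (by decide +kernel))
    (g gt1 s1 gt4 s4 h1 h4 _ (by decide +kernel)) (g gt1 s1 gt5 s5 h1 h5 _ (by decide +kernel))
    (g gt1 s1 gt6 s6 h1 h6 _ (by decide +kernel)) (g gt2 s2 gt3 s3 h2 h3 _ (by decide +kernel))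
    (g gt2 s2 gt4 s4 h2 h4 _ (by decide +kernel)) (g gt2 s2 gt5 s5 h2 h5 _ (by decide +kernel))
    (g gt2 s2 gt6 s6 h2 h6 _ (by decide +kernel)) (g gt3 s3 gt4 s4 h3 h4 _ (by decide +kernel))
    (g gt3 s3 gt5 s5 h3 h5 _ (by decide +kernel)) (g gt3 s3 gt6 s6 h3 h6 _ (by decide +kernel))
    (g gt4 s4 gt5 s5 h4 h5 _ (by decide +kernel)) (g gt4 s4 gt6 s6 h4 h6 _ (by decide +kernel))
    (getR h hd hz hu gt1 s1 h1 v1 (by norm_num)) (getR h hd hz hu gt2 s2 h2 v2 (by norm_num))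
    (getR h hd hz hu gt3 s3 h3 v3 (by norm_num)) (getR h hd hz hu gt4 s4 h4 v4 (by norm_num))
    (getR h hd hz hu gt5 s5 h5 v5 (by norm_num)) (getR h hd hz hu gt6 s6 h6 v6 (by norm_num))
  exact h.top h.ti χ (by exact_mod_cast e)

end Cfsg.Agent.NA9
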